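import Cfsg.Agent.H974.IF.SLRow
import Cfsg.Agent.H778.FX.Row
import Cfsg.Agent.S0205

/-!
# S5719: the cells `PSL_n(q)`, `q` odd, `n ≥ 5` (helper974, helper778, helper353)

`killE_psl_odd` : both fields `CellsPSL.oddmid`, `CellsPSL.oddlarge`.
-/

set_option autoImplicit false

namespace Cfsg.Agent.H974.IF

open Matrix Subgroup Cfsg.Agent.H209.Fxy

theorem killE_psl_odd (F : Type) [Field F] [Fintype F] (n : ℕ) (ho : Odd (Fintype.card F)) (hn : 5 ≤ n) :
    KillE (ProjectiveSpecialLinearGroup (Fin n) F) := by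
  intro A Γ h hev
  have hFT : ∀ (D : Type) [Group D] [Finite D], Odd (Nat.card D) → Group.IsSolvable D :=
    fun D _ _ hD => Cfsg.Agent.S0205.result hD
  have h2 : (2 : F) ≠ 0 := by
    intro h0
    have h1 : ringChar F = 2 := by
      have h3 : ringChar F ∣ 2 := by
        rw [← CharP.cast_eq_zero_iff F (ringChar F) 2]
        exact_mod_cast h0
      rcases (Nat.dvd_prime Nat.prime_two).1 h3 with h4 | h4
      · exact absurd h4 (CharP.ringChar_ne_one)
      · exact h4
    have h5 := FiniteField.even_card_iff_char_two.1 h1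
    have h6 := Nat.odd_iff.1 ho
    omega
  obtain ⟨z, hz, hzA⟩ := Cfsg.Agent.H778.FX.exists_fund_psl hFT hn h2 h hev
  exact final_sl hFT hn h2 h hz hzA

end Cfsg.Agent.H974.IF
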