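import Cfsg.Agent.H974.IF.SLNum
import Cfsg.Agent.H974.IF.LiftE4
import Cfsg.Agent.H74.PslF
import Cfsg.Agent.H172.Inv.OddIrr
import Cfsg.Agent.H371.IFx.Base
import Cfsg.Agent.H847.IF.Lift

/-!
# S5719, `PSL_m(q)`, `q` odd, `m ≥ 5`: the final step (helper974)

`final_sl` : a counterexample `IF A Γ` with a fundamental involution in `A` is impossible, given the absolute form of PHI
in dimension `m - 2`.
-/

set_option autoImplicit false

namespace Cfsg.Agent.H974.IF

open Matrix Subgroup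
open Cfsg.Agent.H127.Gs Cfsg.Agent.H974.Gs Cfsg.Agent.H209.Fxy
open Cfsg.Agent.ClassicalGeometry.AutPSL.Root (pr pr_surjective pr_eq_one_iff exists_smul_of_pr_eq)

section

variable {F : Type*} [Field F] {ι : Type*} [Fintype ι] [DecidableEq ι]

theorem pr_sI_ne_one (h2 : (2 : F) ≠ 0) {I : Finset ι} (hI : Even I.card) {i k : ι} (hi : i ∈ I) (hk : k ∉ I) :
    pr (sI F I hI) ≠ 1 := by
  intro h
  rw [← map_one (pr : Matrix.SpecialLinearGroup ι F →* _)] at h
  obtain ⟨e, he⟩ := exists_smul_of_pr_eq h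
  rw [coe_sI, Matrix.SpecialLinearGroup.coe_one] at he
  have h3 := congrFun (congrFun he i) i
  have h4 := congrFun (congrFun he k) k
  rw [one_apply_eq, Matrix.smul_apply, diagonal_apply_eq, smul_eq_mul] at h3 h4
  unfold sg at h3 h4
  rw [if_pos hi] at h3
  rw [if_neg hk, mul_one] at h4
  apply h2
  rw [← h4] at h3
  linear_combination h3

theorem pr_sI_ne (h2 : (2 : F) ≠ 0) {I J : Finset ι} (hI : Even I.card) (hJ : Even J.card) {i k : ι} (hi : i ∈ I)
    (hiJ : i ∈ J) (hk : k ∉ I) (hkJ : k ∈ J) : pr (sI F I hI) ≠ pr (sI F J hJ) := by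
  intro h
  obtain ⟨e, he⟩ := exists_smul_of_pr_eq h
  rw [coe_sI, coe_sI] at he
  have h3 := congrFun (congrFun he i) i
  have h4 := congrFun (congrFun he k) k
  rw [Matrix.smul_apply, diagonal_apply_eq, diagonal_apply_eq, smul_eq_mul] at h3 h4
  unfold sg at h3 h4
  rw [if_pos hi, if_pos hiJ] at h3
  rw [if_neg hk, if_pos hkJ, mul_one] at h4
  apply h2
  rw [← h4] at h3
  linear_combination -h3

theorem mem_comap_centralizer {I J : Finset ι} (hI : Even I.card) {c : F} (hc : ∀ j ∈ J, sg F I j = c)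
    {x : Matrix.SpecialLinearGroup ι F} (hx : x ∈ NatG F J) : x * sI F I hI = sI F I hI * x := by
  have h1 := NatG_le_centralizer hI hc hx
  rw [mem_centralizer_iff] at h1
  exact (h1 _ rfl).symm

end

section

variable {F : Type*} [Field F] [Fintype F]

/-- an exponent bound for the minimal index of `SL_k(q)` -/
theorem min_index_sl (h3 : 3 ≤ Fintype.card F) {k : ℕ} (hk : 3 ≤ k) {X : Subgroup (Matrix.SpecialLinearGroup (Fin k) F)}
    (hX : X ≠ ⊤) : Fintype.card F ^ (k - 1) ≤ X.index := by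
  refine le_trans ?_ (Cfsg.Agent.H74.Psl.min_index rfl hk (by omega) X hX)
  rw [Nat.le_div_iff_mul_le (by omega)]
  set q := Fintype.card F
  have h4 : q ^ k = q ^ (k - 1) * q := by rw [← pow_succ]; congr 1; omega
  have h5 : 1 ≤ q ^ (k - 1) := Nat.one_le_pow _ _ (by omega)
  rw [h4, Nat.mul_sub, mul_one]
  omega

variable {r : ℕ}

/-- **one side**: `SL_(m-2)(q) ≤ A` -/
theorem natG_le (h2 : (2 : F) ≠ 0) (h3 : 3 ≤ Fintype.card F) (hr : 1 ≤ r)
    [IsSimpleGroup (ProjectiveSpecialLinearGroup (Fin (r + 4)) F)]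
    {A : Subgroup (ProjectiveSpecialLinearGroup (Fin (r + 4)) F)}
    {Γ : Subgroup (MulAut (ProjectiveSpecialLinearGroup (Fin (r + 4)) F))} (h : IF A Γ)
    (hna : ∃ a b : ProjectiveSpecialLinearGroup (Fin (r + 4)) F, a * b ≠ b * a)
    {I₀ I₁ : Finset (Fin (r + 4))} (h0 : I₀.card = 2) (h1 : I₁.card = 2) (hd : Disjoint I₀ I₁)
    (he0 : Even I₀.card) (he1 : Even I₁.card) (hz0 : pr (sI F I₀ he0) ∈ A) (hz1 : pr (sI F I₁ he1) ∈ A) :
    NatG F I₀ᶜ ≤ A.comap pr := by
  have hcu : (I₀ ∪ I₁).card = 4 := by rw [Finset.card_union_of_disjoint hd, h0, h1]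
  have heu : Even (I₀ ∪ I₁).card := by rw [hcu]; decide
  obtain ⟨i, hi⟩ : ∃ i, i ∈ I₀ := Finset.card_pos.1 (by omega)
  obtain ⟨j, hj⟩ : ∃ j, j ∈ I₁ := Finset.card_pos.1 (by omega)
  obtain ⟨k, hk⟩ : ∃ k, k ∉ I₀ ∪ I₁ := by
    by_contra hc
    push Not at hc
    have : I₀ ∪ I₁ = Finset.univ := Finset.eq_univ_iff_forall.2 hc
    rw [this, Finset.card_univ, Fintype.card_fin] at hcu
    omega
  have hj0 : j ∉ I₀ := fun hc => Finset.disjoint_left.1 hd hc hj
  have hi1 : i ∉ I₁ := fun hc => Finset.disjoint_left.1 hd hi hc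
  have hk0 : k ∉ I₀ := fun hc => hk (Finset.mem_union_left _ hc)
  have hsz : sI F (I₀ ∪ I₁) heu = sI F I₀ he0 * sI F I₁ he1 := by
    apply sl_ext
    rw [Matrix.SpecialLinearGroup.coe_mul, coe_sI, coe_sI, coe_sI, diagonal_mul_diagonal]
    congr 1
    funext x
    unfold sg
    by_cases hx0 : x ∈ I₀
    · have hx1 : x ∉ I₁ := Finset.disjoint_left.1 hd hx0
      simp [hx0, hx1]
    · by_cases hx1 : x ∈ I₁ <;> simp [hx0, hx1]
  have hsA : pr (sI F (I₀ ∪ I₁) heu) ∈ A := by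
    rw [hsz, map_mul]
    exact mul_mem hz0 hz1
  have hBt : ∀ b ∈ NatG F I₀ᶜ, pr (b * sI F I₀ he0) = pr (sI F I₀ he0 * b) := by
    intro b hb
    rw [mem_comap_centralizer he0 (c := 1) (fun j hj => by simp [sg, Finset.mem_compl.1 hj]) hb]
  have hcI : (I₀ᶜ).card = r + 2 := by
    rw [Finset.card_compl, Fintype.card_fin, h0]
    omega
  have hker : ∀ x ∈ NatG F I₀ᶜ, pr x = 1 → x = 1 := by
    intro x hx hx1
    exact NatG_center (by rw [hcI, Fintype.card_fin]; omega) hx ((pr_eq_one_iff x).1 hx1)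
  have hI1c : I₁ ⊆ I₀ᶜ := fun x hx => Finset.mem_compl.2 fun hc => Finset.disjoint_left.1 hd hc hx
  have hN := card_block (F := F) h2 (J := I₀ᶜ) (I₁ := I₁) heu (k := i) (by simpa using hi)
    (fun x hx => by
      rw [Finset.mem_union]
      exact ⟨fun h => h.resolve_left (Finset.mem_compl.1 hx), Or.inr⟩) hI1c
  have hcR : (I₀ᶜ \ I₁).card = r := by
    rw [Finset.card_sdiff_of_subset hI1c, hcI, h1]
    omega
  rw [hcR, h1, Nat.card_eq_fintype_card (α := F)] at hN
  have hE := lift_E4_card h hna pr pr_surjective (s := sI F (I₀ ∪ I₁) heu) (t := sI F I₀ he0) hsA hz0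
    (pr_sI_ne_one h2 heu (Finset.mem_union_left _ hi) hk) (pr_sI_ne_one h2 he0 hi hj0)
    (by rw [sI_mul_self, map_one]) (by rw [sI_mul_self, map_one])
    (fun hc => pr_sI_ne h2 he0 heu hi (Finset.mem_union_left _ hi) hj0 (Finset.mem_union_right _ hj) hc.symm)
    (by rw [sI_comm]) hBt hBt hker hN
  have hC := card_centralizer_sI (F := F) heu
  have hccu : ((I₀ ∪ I₁)ᶜ).card = r := by
    rw [Finset.card_compl, Fintype.card_fin, hcu]
    omega
  rw [card_NatG _ hcu, card_NatG _ hccu] at hC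
  rw [card_NatG _ hcI] at hE
  by_contra hno
  -- the minimal index
  have hidx : Fintype.card F ^ (r + 1) ≤ (A.comap pr).relIndex (NatG F I₀ᶜ) := by
    obtain ⟨e, he⟩ := exists_emb I₀ᶜ hcI
    have hrange : (emb e : Matrix.SpecialLinearGroup (Fin (r + 2)) F →* _).range = NatG F I₀ᶜ := by
      rw [range_emb, he]
    rw [← hrange, ← index_comap]
    have h5 : ((A.comap pr).comap (emb e : Matrix.SpecialLinearGroup (Fin (r + 2)) F →* _)) ≠ ⊤ := by
      intro h6
      apply hno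
      rw [← hrange]
      rintro _ ⟨x, rfl⟩
      have : x ∈ ((A.comap pr).comap (emb e : Matrix.SpecialLinearGroup (Fin (r + 2)) F →* _)) := by rw [h6]; trivial
      exact this
    have h6 := min_index_sl h3 (k := r + 2) (by omega) h5
    simpa using h6
  have h7 := ineq_two (F := F) h3 hr
  have h8 : (Fintype.card F ^ (r + 1)) ^ 4 * g F (r + 2) * (g F 4 * g F r) ≤
      (A.comap pr).relIndex (NatG F I₀ᶜ) ^ 4 * g F (r + 2) *
        Nat.card (centralizer ({sI F (I₀ ∪ I₁) heu} : Set (Matrix.SpecialLinearGroup (Fin (r + 4)) F))) :=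
    Nat.mul_le_mul (Nat.mul_le_mul_right _ (Nat.pow_le_pow_left hidx 4)) hC
  have h9 := lt_of_le_of_lt (h7.trans h8) hE
  have h10 : 2 ^ 2 + r ^ 2 = 4 + r ^ 2 := by norm_num
  rw [h10] at h9
  exact lt_irrefl _ h9

/-- **two orthogonal fundamental involutions in `A`** -/
theorem final_coord (h2 : (2 : F) ≠ 0) (h3 : 3 ≤ Fintype.card F) (hr : 1 ≤ r)
    [IsSimpleGroup (ProjectiveSpecialLinearGroup (Fin (r + 4)) F)]
    {A : Subgroup (ProjectiveSpecialLinearGroup (Fin (r + 4)) F)}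
    {Γ : Subgroup (MulAut (ProjectiveSpecialLinearGroup (Fin (r + 4)) F))} (h : IF A Γ)
    (hna : ∃ a b : ProjectiveSpecialLinearGroup (Fin (r + 4)) F, a * b ≠ b * a)
    {I₀ I₁ : Finset (Fin (r + 4))} (h0 : I₀.card = 2) (h1 : I₁.card = 2) (hd : Disjoint I₀ I₁)
    (he0 : Even I₀.card) (he1 : Even I₁.card) (hz0 : pr (sI F I₀ he0) ∈ A) (hz1 : pr (sI F I₁ he1) ∈ A) : False := by
  have hle0 := natG_le h2 h3 hr h hna h0 h1 hd he0 he1 hz0 hz1
  have hle1 := natG_le h2 h3 hr h hna h1 h0 hd.symm he1 he0 hz1 hz0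
  have hcu : (I₀ ∪ I₁).card = 4 := by rw [Finset.card_union_of_disjoint hd, h0, h1]
  obtain ⟨k, hk⟩ : ∃ k, k ∉ I₀ ∪ I₁ := by
    by_contra hc
    push Not at hc
    have : I₀ ∪ I₁ = Finset.univ := Finset.eq_univ_iff_forall.2 hc
    rw [this, Finset.card_univ, Fintype.card_fin] at hcu
    omega
  have h4 : NatG F I₀ᶜ ⊔ NatG F I₁ᶜ = ⊤ := by
    refine sup_natG (fun i => ?_) (r := k) (Finset.mem_compl.2 fun hc => hk (Finset.mem_union_left _ hc))
      (Finset.mem_compl.2 fun hc => hk (Finset.mem_union_right _ hc))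
    by_cases hi : i ∈ I₀
    · exact Or.inr (Finset.mem_compl.2 (Finset.disjoint_left.1 hd hi))
    · exact Or.inl (Finset.mem_compl.2 hi)
  have h5 : A.comap pr = ⊤ := by
    rw [eq_top_iff, ← h4]
    exact sup_le hle0 hle1
  apply h.ne_top
  rw [eq_top_iff]
  intro x _
  obtain ⟨y, rfl⟩ := pr_surjective x
  have : y ∈ A.comap pr := by rw [h5]; trivial
  exact this

/-- the absolute form of PHI in dimension `k` -/
def PhiSL (F : Type*) [Field F] [Fintype F] (k : ℕ) : Prop :=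
  ∀ X : Subgroup (Matrix.SpecialLinearGroup (Fin k) F),
    (∀ (I : Finset (Fin k)) (hI : Even I.card) (C : Matrix.SpecialLinearGroup (Fin k) F), I.card = 2 →
      C * sI F I hI * C⁻¹ ∉ X) → Fintype.card F ^ (k * (k - 1) / 2) ≤ X.index

omit [Fintype F] in
theorem emb_sI {κ : Type*} [Fintype κ] [DecidableEq κ] {ι : Type*} [Fintype ι] [DecidableEq ι] (e : κ ↪ ι) {I : Finset κ}
    (hI : Even I.card) (hI' : Even (I.map e).card) : emb e (sI F I hI) = sI F (I.map e) hI' := by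
  apply sl_ext
  rw [Cfsg.Agent.H127.Gs.coe_emb, coe_sI, coe_sI]
  unfold embM
  have h1 : diagonal (sg F I) - 1 = diagonal (fun a => sg F I a - 1) := by
    rw [← diagonal_one, diagonal_sub]
  rw [h1]
  ext x y
  rw [Matrix.add_apply, mul_apply]
  simp_rw [mul_diagonal, transpose_apply]
  have h2 : ∀ (z : ι) (a : κ), z ≠ e a → Em F e z a = 0 := by
    intro z a h
    simp [Em, h]
  by_cases hxy : x = y
  · subst hxy
    rw [one_apply_eq, diagonal_apply_eq]
    by_cases hx : ∃ a, x = e a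
    · obtain ⟨a, rfl⟩ := hx
      have h3 : Em F e (e a) a = 1 := by simp [Em]
      rw [Finset.sum_eq_single a]
      · rw [h3, one_mul, mul_one]
        have h4 : sg F (I.map e) (e a) = sg F I a := by
          unfold sg
          simp
        rw [h4]
        ring
      · intro b _ hb
        rw [h2 (e a) b (fun h => hb (e.injective h).symm), zero_mul, zero_mul]
      · intro h
        exact absurd (Finset.mem_univ a) h
    · push Not at hx
      rw [Finset.sum_eq_zero (fun a _ => by rw [h2 x a (hx a), zero_mul, zero_mul]), add_zero]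
      unfold sg
      rw [if_neg]
      intro h
      obtain ⟨a, -, ha⟩ := Finset.mem_map.1 h
      exact hx a ha.symm
  · rw [one_apply_ne hxy, diagonal_apply_ne _ hxy, zero_add]
    refine Finset.sum_eq_zero fun a _ => ?_
    by_cases hx : x = e a
    · rw [h2 y a (fun h => hxy (hx.trans h.symm)), mul_zero]
    · rw [h2 x a hx, zero_mul, zero_mul]

/-- **a fundamental involution in `A` is impossible** -/
theorem final_sI (h2 : (2 : F) ≠ 0) (h3 : 3 ≤ Fintype.card F) (hr : 1 ≤ r)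
    [IsSimpleGroup (ProjectiveSpecialLinearGroup (Fin (r + 4)) F)]
    (hphi : PhiSL F (r + 2))
    {A : Subgroup (ProjectiveSpecialLinearGroup (Fin (r + 4)) F)}
    {Γ : Subgroup (MulAut (ProjectiveSpecialLinearGroup (Fin (r + 4)) F))} (h : IF A Γ)
    (hna : ∃ a b : ProjectiveSpecialLinearGroup (Fin (r + 4)) F, a * b ≠ b * a)
    {I₀ : Finset (Fin (r + 4))} (h0 : I₀.card = 2) (he0 : Even I₀.card) {C : Matrix.SpecialLinearGroup (Fin (r + 4)) F}
    (hz : pr (C * sI F I₀ he0 * C⁻¹) ∈ A) : False := by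
  -- conjugate
  have hconj : ∀ (B : Subgroup (ProjectiveSpecialLinearGroup (Fin (r + 4)) F))
      (D : Matrix.SpecialLinearGroup (Fin (r + 4)) F) (x : Matrix.SpecialLinearGroup (Fin (r + 4)) F),
      pr (D * x * D⁻¹) ∈ B → pr x ∈ B.map (MulAut.conj (pr D⁻¹)).toMonoidHom := by
    intro B D x hx
    refine ⟨_, hx, ?_⟩
    change pr D⁻¹ * pr (D * x * D⁻¹) * (pr D⁻¹)⁻¹ = pr x
    rw [← map_inv, ← map_mul, ← map_mul]
    congr 1
    group
  have h' := Cfsg.Agent.H371.IFx.IF.congr (e := MulAut.conj (pr C⁻¹)) h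
  have hz' := hconj A C _ hz
  generalize A.map (MulAut.conj (pr C⁻¹)).toMonoidHom = A' at h' hz'
  generalize Γ.map (MulAut.congr (MulAut.conj (pr C⁻¹))).toMonoidHom = Γ' at h'
  have hcI : (I₀ᶜ).card = r + 2 := by
    rw [Finset.card_compl, Fintype.card_fin, h0]
    omega
  obtain ⟨i, hi⟩ : ∃ i, i ∈ I₀ := Finset.card_pos.1 (by omega)
  obtain ⟨j, hj⟩ : ∃ j, j ∈ I₀ᶜ := Finset.card_pos.1 (by omega)
  have hj' : j ∉ I₀ := Finset.mem_compl.1 hj
  obtain ⟨e, he⟩ := exists_emb I₀ᶜ hcI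
  have hrange : (emb e : Matrix.SpecialLinearGroup (Fin (r + 2)) F →* _).range = NatG F I₀ᶜ := by
    rw [range_emb, he]
  have hBt : ∀ b ∈ NatG F I₀ᶜ, b * sI F I₀ he0 = sI F I₀ he0 * b := by
    intro b hb
    exact mem_comap_centralizer he0 (c := 1) (fun j hj => by simp [sg, Finset.mem_compl.1 hj]) hb
  have hex : ∃ (I : Finset (Fin (r + 2))) (hI : Even I.card) (D : Matrix.SpecialLinearGroup (Fin (r + 2)) F),
      I.card = 2 ∧ pr (emb e (D * sI F I hI * D⁻¹)) ∈ A' := by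
    by_contra hcon
    push Not at hcon
    have h4 := hphi ((A'.comap pr).comap (emb e)) (fun I hI D hI2 hmem => hcon I hI D hI2 hmem)
    rw [index_comap, hrange] at h4
    have h5 := Cfsg.Agent.H847.IF.lift_E2_card h' hna pr pr_surjective (t := sI F I₀ he0) hz'
      (pr_sI_ne_one h2 he0 hi hj') (by rw [sI_mul_self, map_one]) (B := NatG F I₀ᶜ)
      (fun b hb => by rw [hBt b hb])
    have h6 := card_centralizer_sI (F := F) he0
    rw [card_NatG _ h0, card_NatG _ hcI] at h6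
    have h7 := ineq_one (F := F) h3 (k := r + 2) (by omega)
    have h8 : (Fintype.card F ^ ((r + 2) * (r + 2 - 1) / 2)) ^ 5 * (g F 2 * g F (r + 2)) ≤
        (A'.comap pr).relIndex (NatG F I₀ᶜ) ^ 5 *
          Nat.card (centralizer ({sI F I₀ he0} : Set (Matrix.SpecialLinearGroup (Fin (r + 4)) F))) :=
      Nat.mul_le_mul (Nat.pow_le_pow_left h4 5) h6
    exact lt_irrefl _ (lt_of_le_of_lt (h7.trans h8) h5)
  obtain ⟨I, hI, D, hI2, hD⟩ := hex
  have hI' : Even (I.map e).card := by rwa [Finset.card_map]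
  have hmul : emb e (D * sI F I hI * D⁻¹) = emb e D * sI F (I.map e) hI' * (emb e D)⁻¹ := by
    rw [map_mul, map_mul, map_inv, emb_sI e hI hI']
  rw [hmul] at hD
  have hDm : emb e D ∈ NatG F I₀ᶜ := by rw [← hrange]; exact ⟨D, rfl⟩
  have hD2 : pr (emb e D * sI F I₀ he0 * (emb e D)⁻¹) ∈ A' := by
    rw [hBt _ hDm, mul_inv_cancel_right]
    exact hz'
  have h'' := Cfsg.Agent.H371.IFx.IF.congr (e := MulAut.conj (pr (emb e D)⁻¹)) h'
  have hz0 := hconj A' (emb e D) _ hD2
  have hz1 := hconj A' (emb e D) _ hD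
  have hd : Disjoint I₀ (I.map e) := by
    rw [Finset.disjoint_left]
    intro x hx hx'
    have h4 : x ∈ I₀ᶜ := by
      rw [← he]
      exact Finset.map_subset_map.2 (Finset.subset_univ I) hx'
    exact Finset.mem_compl.1 h4 hx
  exact final_coord h2 h3 hr h'' hna h0 (by rw [Finset.card_map, hI2]) hd he0 hI' hz0 hz1

end

end Cfsg.Agent.H974.IF
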