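import Cfsg.Agent.H974.IF.SLFin
import Cfsg.Agent.H353.IF.PhiSLCor
import Cfsg.Agent.S0249

/-!
# S5719, `PSL_m(q)`, `q` odd, `m ≥ 5`: the final step in the form with `mfund` (helper974)

* `exists_conj_sI` : a fundamental involution of `SL` is `C * sI I₀ * C⁻¹`;
* `phi_sl'` : the absolute form of PHI (helper353) in the form `PhiSL`;
* `final_sl` : `IF A Γ`, `5 ≤ m`, `mfund z`, the image of `z` in `A` ==> `False`.
-/

set_option autoImplicit false

namespace Cfsg.Agent.H974.IF

open Matrix Subgroup Module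
open Cfsg.Agent.H127.Gs Cfsg.Agent.H974.Gs Cfsg.Agent.H209.Fxy
open Cfsg.Agent.ClassicalGeometry.AutPSL.Root (pr pr_surjective pr_eq_one_iff exists_smul_of_pr_eq)

section

variable {F : Type*} [Field F] {ι : Type*} [Fintype ι] [DecidableEq ι]

/-- rank factorisation of an idempotent of rank `2` -/
theorem exists_factor {P : Matrix ι ι F} (hP : P * P = P) (hr : P.rank = 2) :
    ∃ (A : Matrix ι (Fin 2) F) (B : Matrix (Fin 2) ι F), A * B = P ∧ B * A = 1 := by
  have hr' : finrank F (LinearMap.range P.mulVecLin) = 2 := hr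
  let b := finBasisOfFinrankEq F (LinearMap.range P.mulVecLin) hr'
  let R : (ι → F) →ₗ[F] (LinearMap.range P.mulVecLin) := P.mulVecLin.rangeRestrict
  let S : (ι → F) →ₗ[F] (Fin 2 → F) := b.equivFun.toLinearMap ∘ₗ R
  let T : (Fin 2 → F) →ₗ[F] (ι → F) := (LinearMap.range P.mulVecLin).subtype ∘ₗ b.equivFun.symm.toLinearMap
  have hTS : ∀ x, T (S x) = P *ᵥ x := by
    intro x
    show ((b.equivFun.symm (b.equivFun (R x)) : LinearMap.range P.mulVecLin) : ι → F) = P *ᵥ x
    rw [LinearEquiv.symm_apply_apply]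
    rfl
  have hST : ∀ y, S (T y) = y := by
    intro y
    show b.equivFun (R (T y)) = y
    have h1 : R (T y) = b.equivFun.symm y := by
      apply Subtype.ext
      show P *ᵥ (T y) = ((b.equivFun.symm y : LinearMap.range P.mulVecLin) : ι → F)
      obtain ⟨z, hz⟩ := (b.equivFun.symm y).2
      have h2 : T y = P *ᵥ z := hz.symm
      rw [← hz, h2, mulVec_mulVec, hP]
      rfl
    rw [h1, LinearEquiv.apply_symm_apply]
  refine ⟨LinearMap.toMatrix' T, LinearMap.toMatrix' S, ?_, ?_⟩
  · rw [← LinearMap.toMatrix'_comp]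
    have h1 : T ∘ₗ S = toLin' P := by
      apply LinearMap.ext
      intro x
      rw [LinearMap.comp_apply, hTS, toLin'_apply]
    rw [h1, LinearMap.toMatrix'_toLin']
  · rw [← LinearMap.toMatrix'_comp]
    have h1 : S ∘ₗ T = LinearMap.id := by
      apply LinearMap.ext
      intro x
      rw [LinearMap.comp_apply, hST, LinearMap.id_apply]
    rw [h1, LinearMap.toMatrix'_id]

/-- a fundamental involution of `SL` is conjugate to `sI I₀` -/
theorem exists_conj_sI (h2 : (2 : F) ≠ 0) (h3 : 3 ≤ Fintype.card ι) {z : Matrix.SpecialLinearGroup ι F}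
    (hz : Cfsg.Agent.H353.Phi.mfund z) {I₀ : Finset ι} (h0 : I₀.card = 2) (he0 : Even I₀.card) :
    ∃ C : Matrix.SpecialLinearGroup ι F, z = C * sI F I₀ he0 * C⁻¹ := by
  obtain ⟨hzz, hr⟩ := hz
  have hzz' : (z : Matrix ι ι F) * (z : Matrix ι ι F) = 1 := by
    rw [← Matrix.SpecialLinearGroup.coe_mul, hzz, Matrix.SpecialLinearGroup.coe_one]
  set P : Matrix ι ι F := (2 : F)⁻¹ • (1 - (z : Matrix ι ι F)) with hPdef
  have hP : P * P = P := by
    have h4 : (1 - (z : Matrix ι ι F)) * (1 - (z : Matrix ι ι F)) = (2 : F) • (1 - (z : Matrix ι ι F)) := by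
      rw [sub_mul, one_mul, mul_sub, mul_one, hzz', two_smul]
      abel
    rw [hPdef, smul_mul_smul_comm, h4, smul_smul]
    congr 1
    field_simp
  have hPr : P.rank = 2 := by
    have h4 : P = (-(2 : F)⁻¹) • ((z : Matrix ι ι F) - 1) := by
      rw [hPdef, neg_smul, ← smul_neg, neg_sub]
    rw [h4, ← hr]
    exact Matrix.rank_smul_of_mem_nonZeroDivisors _ (mem_nonZeroDivisors_of_ne_zero (neg_ne_zero.2 (inv_ne_zero h2)))
  obtain ⟨A, B, hAB, hBA⟩ := exists_factor hP hPr
  obtain ⟨e, he⟩ := exists_emb I₀ h0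
  obtain ⟨C, hC1, hC2⟩ := exists_frame hBA e (by rw [Fintype.card_fin]; omega)
  refine ⟨C, ?_⟩
  rw [eq_mul_inv_iff_mul_eq]
  apply sl_ext
  rw [Matrix.SpecialLinearGroup.coe_mul, Matrix.SpecialLinearGroup.coe_mul, coe_sI]
  have hz1 : (z : Matrix ι ι F) = 1 - (2 : F) • (A * B) := by
    rw [hAB, hPdef, smul_smul, mul_inv_cancel₀ h2, one_smul, sub_sub_cancel]
  have hs : diagonal (sg F I₀) = 1 - (2 : F) • (Em F e * (Em F e)ᵀ) := by
    ext x y
    rw [Matrix.sub_apply, Matrix.smul_apply, mul_apply]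
    simp_rw [transpose_apply]
    have h4 : ∀ (z : ι) (a : Fin 2), z ≠ e a → Em F e z a = 0 := by
      intro z a h
      simp [Em, h]
    by_cases hxy : x = y
    · subst hxy
      rw [one_apply_eq, diagonal_apply_eq]
      by_cases hx : ∃ a, x = e a
      · obtain ⟨a, rfl⟩ := hx
        have h3 : Em F e (e a) a = 1 := by simp [Em]
        rw [Finset.sum_eq_single a]
        · rw [h3, mul_one, smul_eq_mul, mul_one]
          have h4 : e a ∈ I₀ := by rw [← he]; simp
          unfold sg
          rw [if_pos h4]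
          ring
        · intro b _ hb
          rw [h4 (e a) b (fun h => hb (e.injective h).symm), zero_mul]
        · intro h
          exact absurd (Finset.mem_univ a) h
      · push Not at hx
        rw [Finset.sum_eq_zero (fun a _ => by rw [h4 x a (hx a), zero_mul]), smul_zero, sub_zero]
        unfold sg
        rw [if_neg]
        intro h
        rw [← he] at h
        obtain ⟨a, -, ha⟩ := Finset.mem_map.1 h
        exact hx a ha.symm
    · rw [one_apply_ne hxy, diagonal_apply_ne _ hxy, Finset.sum_eq_zero, smul_zero, sub_zero]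
      intro a _
      by_cases hx : x = e a
      · rw [h4 y a (fun h => hxy (hx.trans h.symm)), mul_zero]
      · rw [h4 x a hx, zero_mul]
  rw [hz1, hs, sub_mul, mul_sub, one_mul, mul_one, smul_mul_assoc, mul_smul_comm, Matrix.mul_assoc A B, hC2,
    ← Matrix.mul_assoc, hC1]

end

section

variable {F : Type*} [Field F] [Fintype F]

/-- PHI in the form `PhiSL` -/
theorem phi_sl' {F : Type} [Field F] [Fintype F] (h2 : (2 : F) ≠ 0)
    (hFT : ∀ (D : Type) [Group D] [Finite D], Odd (Nat.card D) → Group.IsSolvable D) {k : ℕ} (hk : 3 ≤ k) :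
    PhiSL F k := by
  intro X hX
  have h1 := Cfsg.Agent.H353.Phi.phi_mat_abs (ι := Fin k) h2 hFT (X := X) (by
    intro z hz hzX
    obtain ⟨i, j, hij⟩ : ∃ i j : Fin k, i ≠ j := ⟨⟨0, by omega⟩, ⟨1, by omega⟩, by simp⟩
    have h0 : ({i, j} : Finset (Fin k)).card = 2 := Finset.card_pair hij
    have he0 : Even ({i, j} : Finset (Fin k)).card := by rw [h0]; decide
    obtain ⟨C, rfl⟩ := exists_conj_sI h2 (by rw [Fintype.card_fin]; exact hk) hz h0 he0
    exact hX _ he0 C h0 hzX)
  rwa [Nat.card_eq_fintype_card, Fintype.card_fin] at h1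

/-- **the final step for `PSL_m(q)`, `q` odd, `m ≥ 5`** : a fundamental involution in `A` is impossible -/
theorem final_sl (hFT : ∀ (D : Type) [Group D] [Finite D], Odd (Nat.card D) → Group.IsSolvable D)
    {F : Type} [Field F] [Finite F] {m : ℕ} (hm : 5 ≤ m) (h2 : (2 : F) ≠ 0)
    {A : Subgroup (ProjectiveSpecialLinearGroup (Fin m) F)}
    {Γ : Subgroup (MulAut (ProjectiveSpecialLinearGroup (Fin m) F))} (h : IF A Γ)
    {z : Matrix.SpecialLinearGroup (Fin m) F} (hz : Cfsg.Agent.H353.Phi.mfund z)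
    (hzA : QuotientGroup.mk' (center (Matrix.SpecialLinearGroup (Fin m) F)) z ∈ A) : False := by
  have hfin : Fintype F := Fintype.ofFinite F
  obtain ⟨r, rfl⟩ : ∃ r, m = r + 4 := ⟨m - 4, by omega⟩
  have hs : IsSimpleGroup (ProjectiveSpecialLinearGroup (Fin (r + 4)) F) := Cfsg.Agent.S0249.result (r + 4) (by omega)
  have h3 : 3 ≤ Fintype.card F := by
    have h4 : 1 < Fintype.card F := Fintype.one_lt_card
    by_contra hc
    have h5 : Fintype.card F = 2 := by omega
    apply h2
    have h6 := FiniteField.cast_card_eq_zero F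
    rw [h5] at h6
    exact_mod_cast h6
  have hna : ∃ a b : ProjectiveSpecialLinearGroup (Fin (r + 4)) F, a * b ≠ b * a := by
    by_contra hcon
    push Not at hcon
    have hN : A.Normal := ⟨fun a ha g => by rw [hcon g a, mul_inv_cancel_right]; exact ha⟩
    rcases hN.eq_bot_or_eq_top with h1 | h1
    · exact h.ne_bot h1
    · exact h.ne_top h1
  have h01 : (0 : Fin (r + 4)) ≠ 1 := by
    intro h
    have := congrArg Fin.val h
    simp at this
  have h0 : ({0, 1} : Finset (Fin (r + 4))).card = 2 := Finset.card_pair h01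
  have he0 : Even ({0, 1} : Finset (Fin (r + 4))).card := by rw [h0]; decide
  obtain ⟨C, rfl⟩ := exists_conj_sI h2 (by rw [Fintype.card_fin]; omega) hz h0 he0
  exact final_sI h2 h3 (by omega) (phi_sl' h2 hFT (by omega)) h hna h0 he0 hzA

end

end Cfsg.Agent.H974.IF
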